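import Cfsg.Agent.INV.HY.P5F
import Cfsg.Agent.INV.AF.Sig
import Cfsg.Agent.INV.AF.Zs
import Cfsg.Agent.TECH.Conj

/-! Basic consequences of the hypothesis. -/

set_option autoImplicit false
set_option linter.unusedSectionVars false

namespace CL.HY
open Subgroup CL.Fus CL.PComp
open CL.A10.Hd (SL5 cd H0)

variable {G : Type*} [Group G] [Finite G] {τ : T →* G} {π : G → SL5}

/-- Lifting of fusion. Let `Y₀ = {x | p j(x) p⁻¹ ∈ range j}`, `n₀ ∈ M` with `π n₀ = p`. Then `n₀ f(Y₀) n₀⁻¹ ≤ range f ⊔ ker`, so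
(`CL.AF.Sig.conj_into`) `o n₀ f(Y₀) n₀⁻¹ o⁻¹ ≤ range f` for an `o ∈ ker`; `n = o n₀`, and `OH.inj2`. -/
theorem OH.lift {X Y : Type*} [Group X] [Group Y] {M : Subgroup G} {π : G → X} (h : OH M π) {f : Y →* G}
    (hf : IsPGroup 2 f.range) (hM : f.range ≤ M) {j : Y →* X} (e : ∀ y, π (f y) = j y) {n₀ : G} (hn : n₀ ∈ M) :
    ∃ n ∈ M, π n = π n₀ ∧ ∀ x y, π n₀ * j x * (π n₀)⁻¹ = j y → n * f x * n⁻¹ = f y := by
  obtain ⟨o, ho, k⟩ := AF.Sig.conj_into hf h.ker_cop (hM.trans h.le_norm_ker)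
    (Q := f.range.map (MulAut.conj n₀).toMonoidHom ⊓ (f.range ⊔ h.ker)) ((hf.map _).to_le inf_le_left) inf_le_right
  obtain ⟨o1, o2⟩ := h.mem_ker.1 ho
  have e1 : π (o * n₀) = π n₀ := by rw [h.mul _ o1 _ hn, o2, one_mul]
  refine ⟨o * n₀, mul_mem o1 hn, e1, fun x y e' => ?_⟩
  have m : ∀ y, f y ∈ M := fun y => hM ⟨y, rfl⟩
  have := k (n₀ * f x * n₀⁻¹) ⟨⟨_, ⟨x, rfl⟩, rfl⟩, by
    rw [← inv_mul_cancel_right (n₀ * f x * n₀⁻¹) (f y)]
    exact mul_mem (mem_sup_right (h.div_mem (mul_mem (mul_mem hn (m x)) (inv_mem hn)) (m y)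
      (by rw [h.conj hn (m x), e, e, e']))) (mem_sup_left ⟨y, rfl⟩)⟩
  rw [show o * (n₀ * f x * n₀⁻¹) * o⁻¹ = o * n₀ * f x * (o * n₀)⁻¹ by group] at this
  exact h.inj2 hf hM this ⟨y, rfl⟩ (by rw [h.conj (mul_mem o1 hn) (m x), e1, e, e, e'])

omit [Finite G] in
theorem E2.of_pg {R : Subgroup G} (hR : IsPGroup 2 R) {g : G} (hg : g ∈ R) : E2 g := MSS.isPGroup_iff_forall_mem.1 hR g hg
/-- an odd power is a 2-element; the exponent may be taken `≡ 1` modulo any power of 2 -/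
theorem exists_E2 (g : G) (k : ℕ) : ∃ m, m % 2 ^ k = 1 % 2 ^ k ∧ Odd m ∧ E2 (g ^ m) := by
  obtain ⟨a, u, hu, e⟩ := Nat.exists_eq_two_pow_mul_odd (orderOf_pos g).ne'
  refine ⟨u ^ Nat.totient (2 ^ k), Nat.ModEq.pow_totient ((Nat.coprime_two_right.2 hu).pow_right k), hu.pow, a, ?_⟩
  rw [← pow_mul, ← orderOf_dvd_iff_pow_eq_one, e, mul_comm]
  exact Nat.mul_dvd_mul_right (dvd_pow_self _ (Nat.totient_pos.2 (by positivity)).ne') _
/-- a power with exponent a power of 4 has odd order -/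
theorem exists_odd (g : G) : ∃ k, Odd (orderOf (g ^ 4 ^ k)) := by
  obtain ⟨a, u, hu, e⟩ := Nat.exists_eq_two_pow_mul_odd (orderOf_pos g).ne'
  refine ⟨a, hu.of_dvd_nat (orderOf_dvd_of_pow_eq_one ?_)⟩
  rw [← pow_mul, ← orderOf_dvd_iff_pow_eq_one, e]
  exact Nat.mul_dvd_mul_right (pow_dvd_pow_of_dvd (by norm_num) a) _
/-- normaliser growth: if every 2-element of `M` that normalises `R` (and generates a 2-group with it) lies in `R`, then `R` is Sylow in `M` -/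
theorem sylIn_of_norm {R M : Subgroup G} (hR : IsPGroup 2 R) (hM : R ≤ M)
    (h : ∀ g ∈ M, g ∈ normalizer (R : Set G) → E2 g → g ∈ R) : SylIn 2 R M := ⟨hM, hR, fun C hC hp hle => by
  have : Fact (Nat.Prime 2) := ⟨Nat.prime_two⟩
  by_contra c
  obtain ⟨g, hg, n⟩ := SetLike.exists_of_lt (MSS.lt_inf_normalizer_of_lt hp (lt_of_le_of_ne hle (Ne.symm c)))
  exact n (h g (hC hg.1) hg.2 (E2.of_pg hp hg.1))⟩
/-- extremal conjugation: `g C_S(x) g⁻¹ ≤ C(y)`, Sylow's theorem in `C(y)` -/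
theorem extremal {S R : Subgroup G} (hS : IsPGroup 2 S) {x y : G} (c : IsConj x y)
    (hR : SylIn 2 R (centralizer {y})) : ∃ g, g * x * g⁻¹ = y ∧ ∀ s ∈ S, Commute s x → g * s * g⁻¹ ∈ R := by
  have : Fact (Nat.Prime 2) := ⟨Nat.prime_two⟩
  obtain ⟨g, rfl⟩ := isConj_iff.1 c
  obtain ⟨b, hb, k⟩ := hR.exists_conj_le (C := (S ⊓ centralizer {x}).map (MulAut.conj g).toMonoidHom)
    (AF.Sig.cent_map g x ▸ map_mono inf_le_right) ((hS.to_le inf_le_left).map _)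
  refine ⟨b * g, ?_, fun s hs e => ?_⟩
  · rw [show b * g * x * (b * g)⁻¹ = b * (g * x * g⁻¹) * b⁻¹ by group, mem_centralizer_singleton_iff.1 hb,
      mul_inv_cancel_right]
  · rw [show b * g * s * (b * g)⁻¹ = b * (g * s * g⁻¹) * b⁻¹ by group]
    exact k _ ⟨s, ⟨hs, mem_centralizer_singleton_iff.2 e⟩, rfl⟩
/-- coprime action: an element of odd order that normalises the 2-group `R`, centralises `Z ≤ R` and has `[o, R] ≤ Z` centralises `R` -/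
theorem comm_of_odd {R Z : Subgroup G} (hZ : IsPGroup 2 Z) {o : G} (ho : Odd (orderOf o))
    (h1 : ∀ x ∈ Z, Commute o x) (h2 : ∀ x ∈ R, o * x * o⁻¹ * x⁻¹ ∈ Z) : ∀ x ∈ R, Commute o x := fun x hx => by
  obtain ⟨c, hc, e⟩ : ∃ c ∈ Z, o * x = c * x * o := ⟨_, h2 x hx, by group⟩
  have k : ∀ n, o ^ n * x = c ^ n * x * o ^ n := fun n => by
    induction n with
    | zero => simp
    | succ n ih =>
      rw [pow_succ', mul_assoc, ih, ← mul_assoc, ← mul_assoc, ((h1 c hc).pow_right n).eq, mul_assoc _ o, e, pow_succ c]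
      simp only [mul_assoc]
  have := k (orderOf o)
  rw [pow_orderOf_eq_one, one_mul, mul_one, right_eq_mul] at this
  obtain ⟨m, e'⟩ := E2.of_pg hZ hc
  rw [eq_one_of_coprime_of_pow (Nat.coprime_two_right.2 (ho.of_dvd_nat (orderOf_dvd_of_pow_eq_one this))) e',
    one_mul] at e
  exact e
/-- a 2-group `S` that normalises `C` normalises a Sylow 2-subgroup of `C` containing `S ⊓ C` (Sylow subgroup of `S ⊔ C` over `S`, `SylIn.inf_normal`) -/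
theorem exists_inv_syl {S C : Subgroup G} (hS : IsPGroup 2 S) (hn : S ≤ normalizer (C : Set G)) :
    ∃ R, SylIn 2 R C ∧ S ≤ normalizer (R : Set G) ∧ S ⊓ C ≤ R := by
  have : Fact (Nat.Prime 2) := ⟨Nat.prime_two⟩
  obtain ⟨P, hP, l⟩ := exists_sylIn_ge (B := S ⊔ C) le_sup_left hS
  exact ⟨P ⊓ C, hP.inf_normal le_sup_right (sup_le hn le_normalizer),
    MSS.le_normalizer_inf (l.trans le_normalizer) hn, inf_le_inf_right _ l⟩

namespace Bas

/-- `F'⟨e45⟩` -/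
abbrev FE : Subgroup T := pat 19 (by decide +kernel)
theorem le_FE : ∀ x ∈ Fp, x ∈ FE := by decide +kernel
theorem FE_norm : ∀ y ∈ FE, ∀ x ∈ Fp, y * x * y⁻¹ ∈ Fp := by decide +kernel
theorem Fp_comm : ∀ x ∈ Fp, ∀ y ∈ Fp, Commute x y := (by decide +kernel : ∀ x ∈ Fp, ∀ y ∈ Fp, x * y = y * x)
theorem FE_inv : ∀ y ∈ FE, y * y = 1 → y ∉ Fp → ∃ f ∈ Fp, f * e45 * f⁻¹ = y := by decide +kernel
/-- the distance from the representative -/
def rk (x : T) : ℕ := Nat.mod (Nat.shiftRight 0x600000606000005000000000000000000000000000000000560600604505005060000050500000400000000000000000000000000000000640000555300004400000000000000000000000000000000000000000000000000000000000000000000000000000000000000000000000000000000000000000000000000000000000000000000000000000000000000000000050500000504605004055040030400000000000000000000000000000000000005040000040300005344000042330000000000000000400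5500440053004000000000000000000050005000500040000000000000000000600060006000500000000000000000034004300340023000000000000000000040004000400030000000000000000500340044002300300000000000000000004000300030002000000000000000000420033003100220000000000000000000500050005000400000000000000000005000400040003000000000000000050045003300420030000000000000000004300420023001205030404050304040203030202030102030304030302040303010202020001010403040304020303030203010102000103020302020103025341423042303120 (Nat.mul 4 x.n)) 16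
/-- `y` is nearer to the representative -/
abbrev Lo (x y : T) : Prop := rk y < rk x ∧ y * y = 1 ∧ y ≠ 1 ∧ pcl y = pcl x
theorem cert : ∀ x : T, x * x = 1 → x ≠ 1 → prep (pcl x) = x ∨ (∃ g ∈ [e12, e23, e34, e45], Lo x (g * x * g⁻¹)) ∨
    (x ∈ T12s ∧ Lo x (s12 x)) ∨ (x ∈ T23s ∧ Lo x (s23 x)) ∨ (x ∈ T34s ∧ Lo x (s34 x)) := by decide +kernel

end Bas

namespace Hyp
variable (h : Hyp τ π)
include h

theorem pg : IsPGroup 2 τ.range := T.pg.of_surjective _ τ.rangeRestrict_surjective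
theorem le_NN : τ.range ≤ NN τ := by rintro _ ⟨t, rfl⟩; exact τ_mem_NN τ t
/-- `OH.lift` -/
theorem fus {p : SL5} (hp : p ∈ P5) :
    ∃ n ∈ NN τ, π n = p ∧ ∀ x y, p * toSL x * p⁻¹ = toSL y → n * τ x * n⁻¹ = τ y := by
  obtain ⟨n, hn, rfl⟩ := h.surj p hp
  exact h.toOH.lift h.pg h.le_NN h.ext hn
/-- `OH.inj2` -/
theorem act {n : G} (hn : n ∈ NN τ) {x y : T} (e : π n * toSL x * (π n)⁻¹ = toSL y)
    (hx : n * τ x * n⁻¹ ∈ τ.range) : n * τ x * n⁻¹ = τ y := h.toOH.inj2 h.pg h.le_NN hx ⟨y, rfl⟩ (by rw [h.toOH.conj hn (τ_mem_NN τ x), h.ext, h.ext, e])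
theorem n12 : ∃ n ∈ NN τ, π n = sl c12 ∧ Act τ n T12s s12 := let ⟨n, h1, h2, h3⟩ := h.fus codes.2.2.2.2.1; ⟨n, h1, h2, fun x hx => h3 _ _ (conj12 x hx)⟩
theorem n23 : ∃ n ∈ NN τ, π n = sl c23 ∧ Act τ n T23s s23 := let ⟨n, h1, h2, h3⟩ := h.fus (H0_le codes.2.2.2.2.2.1); ⟨n, h1, h2, fun x hx => h3 _ _ (conj23 x hx)⟩
theorem n34 : ∃ n ∈ NN τ, π n = sl c34 ∧ Act τ n T34s s34 := let ⟨n, h1, h2, h3⟩ := h.fus (H0_le codes.2.2.2.2.2.2.1); ⟨n, h1, h2, fun x hx => h3 _ _ (conj34 x hx)⟩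
theorem nr : ∃ n ∈ NN τ, π n = sl cr ∧ Act τ n T12s sr := let ⟨n, h1, h2, h3⟩ := h.fus codes.2.2.2.2.2.2.2.1; ⟨n, h1, h2, fun x hx => h3 _ _ (conjr x hx)⟩
/-- `syl_P5`, `OH.inj2` -/
theorem sylN : SylIn 2 τ.range (NN τ) := ⟨h.le_NN, h.pg, fun C hC hp hle => le_antisymm (fun c hc => by
  have := syl_P5.eq_of_le (C := (C.subgroupOf (NN τ)).map h.toOH.hom) (by rintro _ ⟨g, -, rfl⟩; exact h.mem g g.2)
    (((isPGroup_subgroupOf_iff hC).2 hp).map _) (by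
      rintro _ ⟨t, rfl⟩; exact ⟨⟨_, τ_mem_NN τ t⟩, hle ⟨t, rfl⟩, h.ext t⟩)
  obtain ⟨t, e⟩ := this.le ⟨⟨c, hC hc⟩, hc, rfl⟩
  exact ⟨t, h.toOH.inj2 hp hC (hle ⟨t, rfl⟩) hc ((h.ext t).trans e)⟩) hle⟩
theorem ker_comm {o : G} (ho : o ∈ h.ker) {x : T} (hx : o * τ x * o⁻¹ ∈ τ.range) : Commute o (τ x) := mul_inv_eq_iff_eq_mul.1 (h.act (h.toOH.mem_ker.1 ho).1 (by rw [(h.toOH.mem_ker.1 ho).2]; simp) hx)
theorem ker_A {o : G} (ho : o ∈ h.ker) {a : T} (ha : a ∈ AL) : Commute o (τ a) := h.ker_comm ho (map_le_range _ _ ((mem_normalizer_iff.1 (h.toOH.mem_ker.1 ho).1 _).1 ⟨a, ha, rfl⟩))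
/-- `C(A) = A × ker π` (`P5_cen`) -/
theorem cenA {g : G} (hg : ∀ a ∈ AL, Commute g (τ a)) : ∃ a ∈ AL, ∃ o ∈ h.ker, g = τ a * o := by
  have gN : g ∈ NN τ := centralizer_le_normalizer _ (by rintro _ ⟨a, ha, rfl⟩; exact (hg a ha).symm)
  obtain ⟨a, ha, e⟩ := P5_cen (h.mem g gN) fun a ha => by
    rw [← h.ext, Commute, SemiconjBy, ← h.mul _ gN _ (τ_mem_NN τ a), (hg a ha).eq, h.mul _ (τ_mem_NN τ a) _ gN]
  have m := inv_mem (τ_mem_NN τ a)
  exact ⟨a, ha, (τ a)⁻¹ * g, h.toOH.mem_ker.2 ⟨mul_mem m gN, by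
    rw [h.mul _ m _ gN, h.toOH.inv (τ_mem_NN τ a), h.ext, e, inv_mul_cancel]⟩, by group⟩
/-- `C(X) = (A ∩ Z(X)) × C_{ker π}(X)` for `A ≤ X`: with `g = τ a * o`, `o` is a power of `g` -/
theorem cenX {X : Subgroup T} (hX : AL ≤ X) {g : G} (hg : ∀ x ∈ X, Commute g (τ x)) :
    ∃ a ∈ AL, (∀ x ∈ X, Commute a x) ∧ ∃ o ∈ h.ker, (∀ x ∈ X, Commute o (τ x)) ∧ g = τ a * o := by
  obtain ⟨a, ha, o, ho, rfl⟩ := h.cenA fun a ha => hg a (hX ha)
  have a2 : τ a * τ a = 1 := by rw [← map_mul, (by decide +kernel : ∀ a ∈ AL, a * a = 1) a ha, map_one]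
  obtain ⟨n, hn⟩ := h.odd o (h.toOH.mem_ker.1 ho).1 (h.toOH.mem_ker.1 ho).2
  have e : ((τ a * o) ^ 2) ^ (n + 1) = o := by
    rw [(h.ker_A ho ha).symm.mul_pow, pow_two (τ a), a2, one_mul, ← pow_mul, show 2 * (n + 1) = 2 * n + 1 + 1 by ring,
      ← hn, pow_succ, pow_orderOf_eq_one, one_mul]
  have k : ∀ x ∈ X, Commute o (τ x) := fun x hx => e ▸ ((hg x hx).pow_left 2).pow_left _
  refine ⟨a, ha, fun x hx => h.inj ?_, o, ho, k, rfl⟩
  rw [map_mul, map_mul]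
  simpa using ((hg x hx).mul_left (k x hx).inv_left).eq
/-- an element of `N` that normalises `Q` acts on it through `π`, and `π g ∈ H0` -/
theorem actQ {g : G} (hg : g ∈ NN τ) (hQ : g ∈ normalizer (QQ τ : Set G)) :
    π g ∈ H0 ∧ ∀ x ∈ Q0, ∃ y ∈ Q0, g * τ x * g⁻¹ = τ y ∧ π g * toSL x * (π g)⁻¹ = toSL y := by
  have k : ∀ x ∈ Q0, ∃ y ∈ Q0, g * τ x * g⁻¹ = τ y ∧ π g * toSL x * (π g)⁻¹ = toSL y := fun x hx => by
    obtain ⟨y, hy, e⟩ := (mem_normalizer_iff.1 hQ _).1 ⟨x, hx, rfl⟩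
    exact ⟨y, hy, e.symm, by rw [← h.ext, ← h.ext, e, h.toOH.conj hg (τ_mem_NN τ x)]⟩
  exact ⟨mem_H0_of fun x hx => (k x hx).imp fun y hy => ⟨hy.1, hy.2.2⟩, k⟩
theorem trans {a b : T} (ha : a ∈ AL) (hb : b ∈ AL) (a1 : a ≠ 1) (b1 : b ≠ 1) (ab : a ≠ b) :
    ∃ n ∈ NN τ, n * τ z * n⁻¹ = τ a ∧ n * τ e25 * n⁻¹ = τ b := by
  obtain ⟨p, hp, e1, e2⟩ := P5_two ha hb a1 b1 ab
  obtain ⟨n, hn, -, k⟩ := h.fus hp
  exact ⟨n, hn, k _ _ e1, k _ _ e2⟩
/-- Frattini lemma. `R' = τ Y' ⊔ R` is a 2-group normalising `O`; `n₀ (τ Y ⊔ R) n₀⁻¹ ≤ R' ⊔ O`, so `n (τ Y ⊔ R) n⁻¹ ≤ R'` for `n = o n₀`, `o ∈ O` (`conj_into`).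
`n R n⁻¹ ≤ R' ∩ (R ⊔ O) = R` (`r o ∈ R'` gives `o ∈ R' ∩ O = 1`). For `y ∈ Y`: `n τy n⁻¹ ∈ R' ∩ N ≤ range τ` (it is `τ y' * r`, `r ∈ R ∩ N`), `OH.inj2`. -/
theorem frat {Y : Subgroup T} {s : T → T} {n₀ : G} (hn : n₀ ∈ NN τ) (ha : Act τ n₀ Y s) {R O : Subgroup G}
    (hR : IsPGroup 2 R) (h1 : τ.range ≤ normalizer (R : Set G)) (hO : O ≤ h.ker)
    (h2 : τ.range ⊔ R ≤ normalizer (O : Set G)) (h3 : ∀ r ∈ R, n₀ * r * n₀⁻¹ ∈ R ⊔ O)
    (h4 : R ⊓ NN τ ≤ τ.range) :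
    ∃ n ∈ NN τ, π n = π n₀ ∧ Act τ n Y s ∧ n ∈ normalizer (R : Set G) := by
  have pR : IsPGroup 2 ↥(τ.range ⊔ R) := h.pg.to_sup_of_normal_right' hR h1
  have cO := coprime_card_of_le hO h.toOH.ker_cop
  obtain ⟨o, ho, k⟩ := AF.Sig.conj_into pR cO h2 (Q := (Y.map τ ⊔ R).map (MulAut.conj n₀).toMonoidHom)
    ((pR.to_le (sup_le_sup_right (map_le_range _ _) _)).map _) (by
      rw [Subgroup.map_sup]
      refine sup_le ?_ ?_
      · rintro _ ⟨_, ⟨y, hy, rfl⟩, rfl⟩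
        exact mem_sup_left (mem_sup_left ⟨_, (ha y hy).symm⟩)
      · rintro _ ⟨r, hr, rfl⟩
        exact (sup_le_sup_right le_sup_right O : R ⊔ O ≤ τ.range ⊔ R ⊔ O) (h3 r hr))
  obtain ⟨o1, o2⟩ := h.toOH.mem_ker.1 (hO ho)
  have e1 : π (o * n₀) = π n₀ := by rw [h.mul _ o1 _ hn, o2, one_mul]
  have c : ∀ x, o * n₀ * x * (o * n₀)⁻¹ = o * (n₀ * x * n₀⁻¹) * o⁻¹ := fun x => by group
  have m := mul_mem o1 hn
  refine ⟨o * n₀, m, e1, fun y hy => h.act m ?_ ?_, mem_normalizer_fintype fun r hr => ?_⟩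
  · rw [e1, ← h.ext, ← h.ext, ← ha y hy, h.toOH.conj hn (τ_mem_NN τ y)]
  · obtain ⟨a, a1, r, hr, e⟩ := AF.Sig.mem_sup h1 (k _ ⟨_, mem_sup_left ⟨y, hy, rfl⟩, rfl⟩)
    have e' : a * r = o * n₀ * τ y * (o * n₀)⁻¹ := e.trans (c _).symm
    rw [← e']
    exact mul_mem a1 (h4 ⟨hr, (mul_mem_cancel_left (h.le_NN a1)).1
      (e' ▸ mul_mem (mul_mem m (τ_mem_NN τ y)) (inv_mem m))⟩)
  · obtain ⟨r', r1, o', o3, e⟩ := AF.Sig.mem_sup (le_sup_right.trans h2) (x := o * (n₀ * r * n₀⁻¹) * o⁻¹)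
      (mul_mem (mul_mem (mem_sup_right ho) (h3 r hr)) (mem_sup_right (inv_mem ho)))
    have : o' ∈ (τ.range ⊔ R) ⊓ O := ⟨(mul_mem_cancel_left (mem_sup_right r1)).1
      (e ▸ k _ ⟨_, mem_sup_right hr, rfl⟩), o3⟩
    rw [inf_eq_bot_of_isPGroup_of_coprime pR cO, mem_bot] at this
    rwa [c, ← e, this, mul_one]
/-- `F'` is a Sylow 2-subgroup of its centraliser. Take a Sylow subgroup `R` of `C(F')` normalised by `w = τ e45` (`exists_inv_syl`); it suffices that `R = F'` (then a 2-element of `C(F')` is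
conjugate into `F'` by an element of `C(F')`). Otherwise normaliser growth in `R⟨w⟩` gives `x ∈ R \ F'` normalising `F'⟨w⟩`; `x w x⁻¹ = w f` with `f ∈ F'`, `(w f)² = 1`, so `f = [f', e45]` for an `f' ∈ Fp`
(decide); `x f'^{±1}` centralises `w` and `F' ⊇ ⟨z, e25, e35⟩`, hence `A`; it is a 2-element, so lies in `A ∩ C(F') ≤ F'`. -/
theorem cenFp {g : G} (hg : ∀ x ∈ Fp, Commute g (τ x)) (h2 : E2 g) : g ∈ Fp.map τ := by
  have : Fact (Nat.Prime 2) := ⟨Nat.prime_two⟩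
  have mC : ∀ g, g ∈ centralizer (Fp.map τ : Set G) ↔ ∀ x ∈ Fp, Commute g (τ x) := fun g =>
    ⟨fun k x hx => (k _ ⟨x, hx, rfl⟩).symm, fun k => by rintro _ ⟨x, hx, rfl⟩; exact (k x hx).symm⟩
  have pS : IsPGroup 2 (Bas.FE.map τ) := h.pg.to_le (map_le_range _ _)
  obtain ⟨R, hR, n, l⟩ := exists_inv_syl pS (C := centralizer (Fp.map τ : Set G)) (MSS.le_normalizer_centralizer (by
    rintro _ ⟨y, hy, rfl⟩
    refine mem_normalizer_fintype ?_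
    rintro _ ⟨x, hx, rfl⟩
    exact ⟨_, Bas.FE_norm y hy x hx, by simp⟩))
  have FR : ∀ x ∈ Fp, τ x ∈ R := fun x hx => l ⟨⟨x, Bas.le_FE x hx, rfl⟩, (mC _).2 fun y hy =>
    (Bas.Fp_comm x hx y hy).map τ⟩
  have RS : R ≤ Bas.FE.map τ := by
    by_contra c
    obtain ⟨x, ⟨x1, x2⟩, x3⟩ := SetLike.exists_of_lt (MSS.lt_inf_normalizer_of_lt (pS.to_sup_of_normal_right' hR.isPGroup n)
      (lt_of_le_of_ne le_sup_left fun e => c (e ▸ le_sup_right)))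
    obtain ⟨s, hs, r, hr, rfl⟩ := AF.Sig.mem_sup n x1
    have rC := (mC r).1 (hR.le hr)
    obtain ⟨y, hy, e⟩ := (mem_normalizer_iff.1 ((mul_mem_cancel_left (le_normalizer hs)).1 x2) _).1
      ⟨e45, show e45 ∈ Bas.FE by decide +kernel, rfl⟩
    obtain ⟨f, hf, rfl⟩ := Bas.FE_inv y hy (h.inj (by
      rw [map_mul, e, conj_mul, ← map_mul, show e45 * e45 = 1 by decide +kernel]; simp)) fun k => by
        rw [eq_mul_inv_iff_mul_eq, ← (rC y k).eq, mul_right_inj] at e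
        exact absurd (h.inj e ▸ k) (by decide +kernel)
    have c1 : ∀ x ∈ Fp, Commute ((τ f)⁻¹ * r) (τ x) := fun x hx =>
      ((Bas.Fp_comm f hf x hx).map τ).inv_left.mul_left (rC x hx)
    have c2 : Commute ((τ f)⁻¹ * r) (τ e45) := by
      rw [map_mul, map_mul, map_inv] at e
      rw [Commute, SemiconjBy, mul_assoc, ← inv_mul_cancel_right (r * τ e45) r, ← e]; group
    have := h.cen _ (fun a ha => ?_) (E2.of_pg hR.isPGroup (mul_mem (inv_mem (FR f hf)) hr))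
    · refine x3 (mul_mem hs ((mul_mem_cancel_left (inv_mem (mem_map_of_mem τ (Bas.le_FE f hf)))).1 ?_))
      exact map_mono (by decide +kernel : ∀ a ∈ AL, a ∈ Bas.FE) this
    rcases (by decide +kernel : ∀ a ∈ AL, a ∈ Fp ∨ a * e45⁻¹ ∈ Fp) a ha with k | k
    · exact c1 a k
    · simpa using (c1 _ k).mul_right c2
  obtain ⟨k, e⟩ := h2
  obtain ⟨b, hb, m⟩ := hR.exists_conj_le (zpowers_le.2 ((mC g).2 hg)) (MSS.isPGroup_zpowers e)
  have m := m g (mem_zpowers g)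
  obtain ⟨y, hy, e'⟩ := RS m
  have yF : y ∈ Fp := (by decide +kernel : ∀ y ∈ Bas.FE, y * e14 = e14 * y → y ∈ Fp) y hy (h.inj (by
    rw [map_mul, map_mul, e', ((mC _).1 (hR.le m) e14 (by decide +kernel)).eq]))
  refine ⟨y, yF, ?_⟩
  rw [eq_mul_inv_iff_mul_eq, ← ((mC b).1 hb y yF).eq, mul_right_inj] at e'
  exact e'
/-- Every involution of `T` is `T`-conjugate to one of the 25 elements `e_ij`, `e_ij e_kl` (disjoint indices); these are joined by `s12, s23, s34` and `T`-conjugation.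
E.g. prove by a certificate (a tree: parent, letter) that `pcl`-classes are connected. -/
theorem cls {x : T} (h1 : x * x = 1) (h2 : x ≠ 1) : ∃ n ∈ NN τ, n * τ (prep (pcl x)) * n⁻¹ = τ x := by
  obtain ⟨a, a1, -, a2⟩ := h.n12
  obtain ⟨b, b1, -, b2⟩ := h.n23
  obtain ⟨c, c1, -, c2⟩ := h.n34
  induction hr : Bas.rk x using Nat.strong_induction_on generalizing x with
  | _ r ih =>
  have k : ∀ y, ∀ m ∈ NN τ, m * τ x * m⁻¹ = τ y → Bas.Lo x y → ∃ n ∈ NN τ, n * τ (prep (pcl x)) * n⁻¹ = τ x :=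
    fun y m hm e l => by
      obtain ⟨n, hn, e'⟩ := ih _ (hr ▸ l.1) l.2.1 l.2.2.1 rfl
      refine ⟨m⁻¹ * n, mul_mem (inv_mem hm) hn, ?_⟩
      rw [← l.2.2.2, mul_inv_rev, mul_assoc, mul_assoc, ← mul_assoc (τ _), ← mul_assoc n, ← mul_assoc n, e', ← e]
      group
  rcases Bas.cert x h1 h2 with e | ⟨g, -, l⟩ | ⟨m, l⟩ | ⟨m, l⟩ | ⟨m, l⟩
  exacts [⟨1, one_mem _, by rw [e]; simp⟩, k _ _ (τ_mem_NN τ g) (by simp) l, k _ _ a1 (a2 x m) l,
    k _ _ b1 (b2 x m) l, k _ _ c1 (c2 x m) l]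

end Hyp

end CL.HY
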