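import Cfsg.Agent.INV.HY.II2
import Cfsg.Agent.INV.IndexTwo

/-! Case (ii) does not occur in a simple group. -/

set_option autoImplicit false

namespace CL.HY
open Subgroup CL.Fus CL.PComp
open CL.A10.Hd (SL5 cd H0)

variable {G : Type*} [Group G] [Finite G] {τ : T →* G} {π : G → SL5}

/-- model of `T1`: `(y, e)` stands for `τ y * t ^ e` -/
def mu1 (a b : T × Bool) : T × Bool := (a.1 * (bif a.2 then gam b.1 else b.1), xor a.2 b.2)
/-- the class (`true`: class of `z`) of an involution, `u` the class of the outer ones -/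
def k1 (u : Bool) (a : T × Bool) : Bool := bif a.2 then u else decide (pcl a.1 < 2)
/-- `a` is an involution of class `k`, it commutes with `w = z` (`u = true`) or `t2`, and `a w` is an involution of class `u` -/
def ok1 (u : Bool) (a : T × Bool) (k : Bool) : Prop :=
  let w : T × Bool := (bif u then z else t2, false)
  mu1 a a = (1, false) ∧ a ≠ (1, false) ∧ a ≠ w ∧ mu1 a w = mu1 w a ∧ k1 u a = k ∧ k1 u (mu1 a w) = u

instance (u : Bool) (a : T × Bool) (k : Bool) : Decidable (ok1 u a k) := by unfold ok1; infer_instance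
/-- the codes of the elements with `ok1 u a k` -/
def II.lc : Bool → Bool → List ℕ
  | true, true => [1, 2, 3, 4, 5, 6, 7, 9, 10, 11, 12, 13, 14, 15, 64, 72, 256, 264, 320, 328, 512, 520, 576, 584, 768, 776, 832, 840, 1024, 1032, 1056, 1064, 1092,
  1100, 1124, 1132, 1168, 1176, 1200, 1208, 1236, 1244, 1268, 1276, 1282, 1290, 1314, 1322, 1350, 1358, 1382, 1390, 1426, 1434, 1458, 1466, 1494,
  1502, 1526, 1534, 1537, 1545, 1569, 1577, 1605, 1613, 1637, 1645, 1681, 1689, 1713, 1721, 1749, 1757, 1781, 1789, 1795, 1803, 1827, 1835, 1863,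
  1871, 1895, 1903, 1939, 1947, 1971, 1979, 2007, 2015, 2039, 2047]
  | true, false => [24, 26, 40, 44, 56, 62, 82, 88, 100, 104, 118, 120, 136, 140, 168, 172, 388, 392, 484, 488]
  | false, true => [2, 6, 8, 10, 14, 16, 18, 32, 48, 54, 80, 90, 108, 112, 126, 128, 132, 160, 164, 256, 264, 320, 328, 384, 396, 480, 492]
  | false, false => [22, 24, 26, 28, 34, 38, 42, 44, 46, 50, 56, 60, 62, 82, 88, 92, 94, 98, 102, 104, 106, 110, 118, 120, 122, 124, 136, 140, 168, 172, 200, 204, 232,
  236, 288, 292, 296, 300, 352, 356, 360, 364, 388, 392, 416, 428, 448, 460, 484, 488, 513, 515, 521, 523, 581, 583, 589, 591, 769, 775, 777, 783,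
  835, 837, 843, 845, 1024, 1032, 1056, 1064, 1092, 1100, 1124, 1132, 1168, 1176, 1200, 1208, 1236, 1244, 1268, 1276, 1282, 1290, 1314, 1322, 1350,
  1358, 1382, 1390, 1426, 1434, 1458, 1466, 1494, 1502, 1526, 1534, 1537, 1545, 1569, 1577, 1605, 1613, 1637, 1645, 1681, 1689, 1713, 1721, 1749,
  1757, 1781, 1789, 1795, 1803, 1827, 1835, 1863, 1871, 1895, 1903, 1939, 1947, 1971, 1979, 2007, 2015, 2039, 2047]
def II.mk : Bool → Bool → ℕ
  | true, true => 0x8080000080800000080800000808000000008080000080800000080800000808202000002020000002020000020200000000202000002020000002020000020240400000404000000404000004040000000040400000404000000404000004041010000010100000010100000101000000001010000010100000010100000101000000000000000000000000000000000000000000000101000000000000010100000000000000000000000000000000000000000000010100000000000001010000000000000000000000000000000000000000000001010000000000000101000000000000000000000000000000000000000000000101000000000000fefe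
  | true, false => 0x110000000000000000000000110000000000000000000000000000000000000000000000000000011000000110001400110010400004100110005000000
  | false, true => 0x1001000000000000000000001001000000000000010100000000000001010000000000000000000000110000001140011000040100000041000100054544
  | false, false => 0x8080000080800000080800000808000000008080000080800000080800000808202000002020000002020000020200000000202000002020000002020000020240400000404000000404000004040000000040400000404000000404000004041010000010100000010100000101000000001010000010100000010100000101000000000000000000000000000000000000000000002828000000000000828200000000000000000000000000000000000000000000a0a00000000000000a0a00000110000010010000100100000110000011110000000000001111000000000000110000001100000011000000110015404544510400005104544415400000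
def II.ll (u k : Bool) : List (T × Bool) := (II.lc u k).map fun n => (tt n, Nat.ble 1024 n)
def II.ok (u k : Bool) (a : T × Bool) : Bool := (II.mk u k).testBit (Nat.add a.1.n (bif a.2 then 1024 else 0))
theorem II.of_ok {u k : Bool} {a : T × Bool} (h : ok1 u a k) : II.ok u k a = true ∧ a ∈ II.ll u k :=
  (by decide +kernel : ∀ u k e x, ok1 u (x, e) k → II.ok u k (x, e) = true ∧ (x, e) ∈ II.ll u k) u k a.2 a.1 h
theorem II.srch : ∀ u, ((II.ll u true).all fun a => (II.ll u true).all fun b => !(II.ok u false (mu1 a b)) ||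
    (II.ll u false).all fun c => !(II.ok u false (mu1 a c) && II.ok u false (mu1 b c) &&
      II.ok u true (mu1 (mu1 a b) c)) || (II.ll u false).all fun d => !(II.ok u false (mu1 d a) &&
        II.ok u false (mu1 d c) && II.ok u false (mu1 d (mu1 a c)) &&
          decide (mu1 d b = mu1 (mu1 (mu1 a b) c) d))) = true := by decide +kernel

/-- The images `a, b, c, d` of `z, e24, t2, s = e12 e45` (elements fixed by `gam`; `s` maps `e24` to `z e24 t2`). Nested search with pruning (checked in Python: for `u = true` 92 `a`, 128 pairs, no triple; for `u = false` 27 `a`, 192 pairs, 384 triples, no `d`).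
Restrict the loops to the 255 involutions; split into lemmas if it is slow. -/
theorem chk2 (u : Bool) (a b c d : T × Bool) (ha : ok1 u a true) (hb : ok1 u b true) (hab : ok1 u (mu1 a b) false)
    (hc : ok1 u c false) (hac : ok1 u (mu1 a c) false) (hbc : ok1 u (mu1 b c) false) (habc : ok1 u (mu1 (mu1 a b) c) true)
    (hd : ok1 u d false) (had : ok1 u (mu1 d a) false) (hcd : ok1 u (mu1 d c) false) (hacd : ok1 u (mu1 d (mu1 a c)) false)
    (e : mu1 d b = mu1 (mu1 (mu1 a b) c) d) : False := by
  have := List.all_eq_true.1 (List.all_eq_true.1 (II.srch u) a (II.of_ok ha).2) b (II.of_ok hb).2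
  rw [(II.of_ok hab).1, Bool.not_true, Bool.false_or] at this
  have := List.all_eq_true.1 this c (II.of_ok hc).2
  rw [(II.of_ok hac).1, (II.of_ok hbc).1, (II.of_ok habc).1, Bool.and_true, Bool.and_true, Bool.not_true,
    Bool.false_or] at this
  have := List.all_eq_true.1 this d (II.of_ok hd).2
  rw [(II.of_ok had).1, (II.of_ok hcd).1, (II.of_ok hacd).1, decide_eq_true e] at this
  exact absurd this (by decide)

/-- Thompson (`thompson_transfer_inv`): `t` is conjugate into `T`, so to `w = z` or `t2` (`cls2`). `extremal` (with `syl2`, `syl_t2`): `g t g⁻¹ = τ w`, `g C_{T1}(t) g⁻¹ ≤ T1`. Write the images of `τ z, τ e24, τ t2, τ (e12 e45)` as pairs (`mem_T1`).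
For an involution `x` fixed by `gam`, the image of `τ x` has the class of `x`, and its product with `w` is the image of the outer involution `τ x * t ~ t`. Classes are read off by `k1` (`cls2`, `nc2`, `outer`). `chk2`. -/
theorem Hyp.not2 [IsSimpleGroup G] (h : Hyp τ π) : ¬ CaseII τ := by
  intro c
  obtain ⟨t, c⟩ := h.two c
  have t2' := h.two_sq c
  have t1 : t ≠ 1 := fun e => h.t_not c 1 (by rw [map_one, e])
  obtain ⟨g₀, x, ex⟩ : ∃ g : G, g * t * g⁻¹ ∈ τ.range := by
    by_contra n
    obtain ⟨K, hK, ht⟩ := CL.Iso.thompson_transfer_inv (H := T1 τ t) (M := τ.range)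
      (by have := (h.syl2 c).not_dvd_relIndex; rw [relIndex_top_right] at this; exact Nat.odd_iff.2 (by omega))
      (relIndex_eq_two_iff.2 ⟨t, t_T1, fun b hb => by
        have a : ∀ y, τ y * t ∉ τ.range := fun y ⟨s, e⟩ =>
          h.t_not c (y⁻¹ * s) (by rw [map_mul, e, map_inv, inv_mul_cancel_left])
        obtain ⟨y, rfl | rfl⟩ := (h.mem_T1 c).1 hb
        · exact Or.inr ⟨⟨y, rfl⟩, a y⟩
        · exact Or.inl ⟨⟨y, by rw [mul_assoc, t2', mul_one]⟩, a y⟩⟩)
      t_T1 (orderOf_eq_prime ((sq t).trans t2') t1) (not_exists.1 n)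
    rcases (normal_of_index_eq_two hK).eq_bot_or_eq_top with rfl | rfl
    · have := Nat.card_le_card_of_injective τ h.inj
      rw [T.card, ← index_bot, hK] at this
      omega
    · exact ht (mem_top _)
  have x2 : x * x = 1 := h.inj (by rw [map_mul, ex, conj_mul, t2', map_one]; simp)
  have x1 : x ≠ 1 := fun e => t1 (conj_eq_one_iff.1 (by rw [← ex, e, map_one]))
  have tw := (isConj_iff.2 ⟨g₀, ex.symm⟩).trans (h.cls2 c x2 x1)
  generalize decide (pcl x < 2) = u at tw
  obtain ⟨g, eg, hg⟩ : ∃ g, g * t * g⁻¹ = τ (bif u then z else t2) ∧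
      ∀ s ∈ T1 τ t, Commute s t → g * s * g⁻¹ ∈ T1 τ t := by
    cases u
    · obtain ⟨g, e, hg⟩ := extremal (h.pg_T1 c) tw (h.syl_t2 c)
      exact ⟨g, e, fun s a b => (hg s a b).1⟩
    · exact extremal (h.pg_T1 c) tw (h.syl_z c)
  let ev : T × Bool → G := fun a => τ a.1 * bif a.2 then t else 1
  have em : ∀ a b, ev (mu1 a b) = ev a * ev b := by
    rintro ⟨a, _ | _⟩ ⟨b, _ | _⟩ <;> simp only [ev, mu1, cond_true, cond_false, mul_one, map_mul, Bool.xor_false,
      Bool.xor_true, Bool.not_true, Bool.not_false, mul_assoc]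
    · rw [c.sw]
    · rw [← mul_assoc t, c.sw, mul_assoc, t2', mul_one]
  have ei : ∀ {a b}, ev a = ev b → a = b := by
    rintro ⟨a, _ | _⟩ ⟨b, _ | _⟩ e <;> simp only [ev, cond_true, cond_false, mul_one, mul_left_inj] at e
    · rw [h.inj e]
    · exact absurd (by rw [map_mul, e, map_inv, inv_mul_cancel_left]) (h.t_not c (b⁻¹ * a))
    · exact absurd (by rw [map_mul, ← e, map_inv, inv_mul_cancel_left]) (h.t_not c (a⁻¹ * b))
    · rw [h.inj e]
  have e1 : ev (1, false) = 1 := by simp [ev]
  have ew : ev (bif u then z else t2, false) = g * t * g⁻¹ := by simp [ev, eg]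
  have out : ∀ y, τ y * t * (τ y * t) = 1 → IsConj (τ y * t) (τ (bif u then z else t2)) := fun y e =>
    let ⟨s, hs⟩ := h.outer c e; (isConj_iff.2 ⟨τ s, hs⟩).symm.trans tw
  have cl : ∀ a k, ev a * ev a = 1 → ev a ≠ 1 → IsConj (ev a) (τ (bif k then z else t2)) → k1 u a = k := by
    intro a k a2 a1 e
    have : IsConj (ev a) (τ (bif k1 u a then z else t2)) := by
      obtain ⟨a, _ | _⟩ := a <;> simp only [ev, cond_true, cond_false, mul_one] at a2 a1 ⊢
      · exact h.cls2 c (h.inj (by rw [map_mul, a2, map_one])) fun e => a1 (by rw [e, map_one])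
      · exact out a a2
    have := this.symm.trans e
    generalize k1 u a = l at this
    cases l <;> cases k
    exacts [rfl, absurd this.symm (h.nc2 c), absurd this (h.nc2 c), rfl]
  have key : ∀ x a k, ev a = g * τ x * g⁻¹ → x * x = 1 ∧ x ≠ 1 ∧ gam x = x ∧ decide (pcl x < 2) = k → ok1 u a k := by
    rintro x a _ e ⟨x2, x1, gx, rfl⟩
    have a2 : ev a * ev a = 1 := by rw [e, conj_mul, ← map_mul, x2, map_one]; simp
    have a1 : ev a ≠ 1 := fun k => x1 (h.inj ((conj_eq_one_iff.1 (e ▸ k)).trans (map_one τ).symm))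
    have o2 : τ x * t * (τ x * t) = 1 := by
      rw [mul_assoc, ← mul_assoc t, c.sw, gx, mul_assoc, t2', mul_one, ← map_mul, x2, map_one]
    have e' : ev (mu1 a (bif u then z else t2, false)) = g * (τ x * t) * g⁻¹ := by rw [em, e, ew, conj_mul]
    refine ⟨ei (by rw [em, a2, e1]), fun k => a1 (by rw [k, e1]), fun k => h.t_not c x ?_, ei ?_,
      cl _ _ a2 a1 ?_, cl _ _ ?_ ?_ ?_⟩
    · rw [k, ew] at e
      exact (conj_injective e).symm
    · rw [e', em, e, ew, conj_mul, (c.comm gx).eq]
    · rw [e]
      exact (isConj_iff.2 ⟨g, rfl⟩).symm.trans (h.cls2 c x2 x1)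
    · rw [e', conj_mul, o2]; simp
    · rw [e', Ne, conj_eq_one_iff]
      exact fun k => h.t_not c x⁻¹ (by rw [map_inv]; exact inv_eq_of_mul_eq_one_right k)
    · rw [e']
      exact (isConj_iff.2 ⟨g, rfl⟩).symm.trans (out x o2)
  have ex : ∀ x, gam x = x → ∃ a, ev a = g * τ x * g⁻¹ := fun x gx => by
    obtain ⟨y, e | e⟩ := (h.mem_T1 c).1 (hg _ (τ_T1 x) (c.comm gx).symm)
    exacts [⟨(y, false), by simp [ev, e]⟩, ⟨(y, true), by simp [ev, e]⟩]
  have mu : ∀ {a b x y}, ev a = g * τ x * g⁻¹ → ev b = g * τ y * g⁻¹ → ev (mu1 a b) = g * τ (x * y) * g⁻¹ :=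
    fun e e' => by rw [em, e, e', conj_mul, map_mul]
  obtain ⟨a, ha⟩ := ex z (by decide +kernel)
  obtain ⟨b, hb⟩ := ex e24 (by decide +kernel)
  obtain ⟨c, hc⟩ := ex t2 (by decide +kernel)
  obtain ⟨d, hd⟩ := ex (e12 * e45) (by decide +kernel)
  refine chk2 u a b c d (key _ _ _ ha ?_) (key _ _ _ hb ?_) (key _ _ _ (mu ha hb) ?_) (key _ _ _ hc ?_)
    (key _ _ _ (mu ha hc) ?_) (key _ _ _ (mu hb hc) ?_) (key _ _ _ (mu (mu ha hb) hc) ?_) (key _ _ _ hd ?_)
    (key _ _ _ (mu hd ha) ?_) (key _ _ _ (mu hd hc) ?_) (key _ _ _ (mu hd (mu ha hc)) ?_)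
    (ei ((mu hd hb).trans (Eq.trans (congrArg (g * τ · * g⁻¹) ?_) (mu (mu (mu ha hb) hc) hd).symm))) <;>
    decide +kernel

end CL.HY
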