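import Cfsg.Agent.INV.HY.Defs
import Cfsg.Agent.SPOR.A10.HePQ
import Cfsg.Agent.CLAS.SLBasic

/-! Helper lemmas for `P5F`. -/

set_option autoImplicit false
set_option maxRecDepth 100000

namespace CL.HY.PF
open Subgroup CL.Fus CL.PComp
open CL.A10.Hd (SL5 cd H0 isCode mul one allH allH_spec tB ivc qc qi imp imp_mp)
open CL.K CL.F2M Matrix

attribute [local irreducible] cd

theorem mk_iff {g : SL5} {M W : ℕ} (hM : M < 2 ^ 25) (hW : W &&& M = W) :
    cd g &&& M = W ↔ ∀ i j : Fin 5, M.testBit (5 * j + i) = true → g.1 i j = b2z (W.testBit (5 * j + i)) := by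
  have b : ∀ i j : Fin 5, b2z ((cd g).testBit (5 * j + i)) = g.1 i j := fun i j => by
    unfold cd; exact b2z_testBit_mcode g.1 i j
  refine ⟨fun e i j h => by rw [← b, ← e, Nat.testBit_and, h, Bool.and_true], fun k => Nat.eq_of_testBit_eq fun p => ?_⟩
  rw [← hW, Nat.testBit_and, Nat.testBit_and]
  cases h : M.testBit p
  · simp
  have hp : p < 25 := by
    by_contra c
    rw [Nat.testBit_lt_two_pow (hM.trans_le (Nat.pow_le_pow_right two_pos (not_lt.1 c)))] at h
    exact absurd h (by decide)
  have e : p = 5 * (⟨p / 5, by omega⟩ : Fin 5) + (⟨p % 5, by omega⟩ : Fin 5) := (Nat.div_add_mod p 5).symm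
  rw [e] at h ⊢
  rw [b2z_inj ((b _ _).trans (k _ _ h))]

theorem allH0 {p : ℕ → Bool} (h : allH p = true) {g : SL5} (hg : g ∈ H0) : p (cd g) = true :=
  allH_spec h (A10.Hd.V_cd ⟨g, hg⟩)
theorem cd_inv {g : SL5} (hg : g ∈ H0) : ivc (cd g) = cd g⁻¹ := by
  have := Nat.eq_of_beq_eq_true (allH0 A10.Hd.chkIv hg)
  obtain ⟨k, hk⟩ := (A10.Hd.V_cd ⟨g, hg⟩).ivc.exists
  change cd k = ivc (cd g) at hk
  rw [← hk, isCode.map_mul, ← isCode.map_one] at this
  rw [← hk, eq_inv_of_mul_eq_one_right (isCode.inj this)]
theorem chk1 : allH (fun x => Nat.beq (Nat.land x 17318416) 16777216 && imp (tB x) (Nat.beq (code (dec x)) x) &&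
    force (ivc x) fun y => allLt (fun k => Nat.beq (Nat.land (mul x (mul (code (tt (2 ^ k))) y)) 32472031) one) 4) = true := by
  decide +kernel
theorem chk2 : allH (fun x => force (mul x (mul x x)) fun a => force (mul a a) fun b => force (mul a (mul b (mul b b))) fun c =>
    force (mul c c) fun d => force (mul d d) fun e => Nat.beq (mul e e) one &&
      imp (Nat.beq c one) (Nat.beq x one || Nat.ble (sumLt (fun i => force (qc i) fun y => ind (mul x y) (mul y x)) 128) 8)) = true := by
  decide +kernel
theorem det1 {n : ℕ} (g : GL (Fin n) (ZMod 2)) : g.1.det = 1 :=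
  congrArg Units.val (Subsingleton.elim (GeneralLinearGroup.det g) 1)
theorem sl_gl (n : ℕ) : Nonempty (SpecialLinearGroup (Fin n) (ZMod 2) ≃* GL (Fin n) (ZMod 2)) :=
  ⟨MulEquiv.ofBijective SpecialLinearGroup.toGL ⟨SpecialLinearGroup.toGL_injective,
    fun g => ⟨⟨g, det1 g⟩, Units.ext rfl⟩⟩⟩
theorem simple_GL4 : IsSimpleGroup (GL (Fin 4) (ZMod 2)) := by
  have := CL.SL.psl_isSimpleGroup_of_three_le (ι := Fin 4) (F := ZMod 2) (by simp)
  have h : Subgroup.center (SpecialLinearGroup (Fin 4) (ZMod 2)) = ⊥ :=
    card_eq_one.1 (by rw [CL.SL.card_center_SL]; simp)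
  have := ((QuotientGroup.quotientMulEquivOfEq h).trans QuotientGroup.quotientBot).symm.isSimpleGroup
  exact (sl_gl 4).some.symm.isSimpleGroup
theorem card_GL4 : Nat.card (GL (Fin 4) (ZMod 2)) = 20160 := by
  rw [card_GL_field, ZMod.card]; decide +kernel
/-- the code of the block matrix with four given columns -/
def bk (n : ℕ) : ℕ := n % 16 + 32 * (n / 16 % 16) + 1024 * (n / 256 % 16) + 32768 * (n / 4096 % 16) + 16777216
/-- the last column -/
def va (a : T) : ℕ := code a / 1048576 % 16
def TW : ℕ := 0xe84342e83441a87441e38421a784216b84212f84213e84217a8421b68421f28421b86441f82441f84242000000d84342000000e87441a83441e78421a384216f84212b84217e84213a8421f68421b28421f86441b82441d84242000000d83441d87441000000a84342eb8421af8421638421278421be8421fa8421368421728421d86441d82441b84242000000987441983441984342000000ef8421ab8421678421238421fe8421ba8421768421328421986441982441984242000000d38421d78421db8421df8421000000684342683441287441de8421da8421d68421d284213864417824417842420000009784219384219f84219b84215843420000006874412834419e84219a8421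9684219284217864413824415842420000005b84215f84215384215784215834415874410000002843425e84215a84215684215284215864415824413842420000001f84211b84211784211384211874411834411843420000001e84211a84211684211284211864411824411842420000003d84217d8421bd8421fd8421ed8421ad84216d84212d8421000000864382863481827481836481872481874282000000798421398421f98421b98421e98421a98421698421298421854382000000867481823481876481832481854282000000b58421f58421358421758421e58421a58421658421258421853481857481000000824382856481852481834282000000f18421b18421718421318421e18421a18421618421218421817481813481814382000000816481812481814282000000b85441f85441e85441a85441385441785441685441285441835481875481865481825481000000842384843284000000f81441b81441e81441a81441781441381441681441281441871481831481861481821481841384000000841284000000f84142e84142b84142a84142784142684142384142284142874182864182834182824182843184842184000000000000000000000000000000000000000000000000000000000000000000000000000000000000000000000000000000000000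
/-- a matrix with first columns `a`, `b`, and its inverse -/
def tw (a b : T) : ℕ × ℕ := (bk (va a + 16 * va b + 256 * (TW >>> (24 * (16 * va a + va b)) % 256)),
  bk (TW >>> (24 * (16 * va a + va b) + 8) % 65536))
theorem chk3 : ∀ a ∈ AL, ∀ b ∈ AL, a ≠ 1 → b ≠ 1 → a ≠ b → (tw a b).1 < 2 ^ 25 ∧ mul (tw a b).1 (tw a b).2 = one ∧
    (tw a b).1 &&& 17318416 = 16777216 ∧ mul (tw a b).1 (code z) = mul (code a) (tw a b).1 ∧
    mul (tw a b).1 (code e25) = mul (code b) (tw a b).1 := by decide +kernel
theorem memQ (h : H0) : h ∈ A10.Hd.Q0 ↔ ∃ x ∈ Q0, (h : SL5) = toSL x := by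
  refine ⟨fun e => ?_, fun ⟨x, hx, e⟩ => show qc (qi (cd h)) = cd h by
    rw [e, cd_toSL]; exact (by decide +kernel : ∀ x ∈ Q0, qc (qi (code x)) = code x) x hx⟩
  obtain ⟨h1, h2⟩ := (by decide +kernel : ∀ i < 128, dec (qc i) ∈ Q0 ∧ code (dec (qc i)) = qc i) _ (A10.Hd.qi_lt (cd h))
  exact ⟨_, h1, isCode.inj (by rw [cd_toSL, h2]; exact Eq.symm e)⟩
/-- the upper left block -/
def blk : P5 →* GL (Fin 4) (ZMod 2) := MonoidHom.toHomUnits
  { toFun := fun p => p.1.1.submatrix Fin.castSucc Fin.castSucc
    map_one' := submatrix_one _ (Fin.castSucc_injective 4)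
    map_mul' := fun p q => by
      ext i j
      have : q.1.1 (Fin.last 4) j.castSucc = 0 := (q.2 _).trans (one_apply_ne (Fin.castSucc_lt_last j).ne')
      show (p.1.1 * q.1.1) i.castSucc j.castSucc = _
      rw [mul_apply, Fin.sum_univ_castSucc, this, mul_zero, add_zero, mul_apply]
      rfl }
theorem blk_apply (p : P5) (i j : Fin 4) : (blk p).1 i j = p.1.1 i.castSucc j.castSucc := rfl
/-- block diagonal matrices -/
def dg : GL (Fin 4) (ZMod 2) →* P5 := MonoidHom.mk' (fun g =>
  ⟨⟨reindex finSumFinEquiv finSumFinEquiv (fromBlocks g.1 0 0 (1 : Matrix (Fin 1) (Fin 1) (ZMod 2))), by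
    rw [det_reindex_self, det_fromBlocks_zero₂₁, det_one, mul_one, det1]⟩,
    fun j => by fin_cases j <;> rfl⟩) fun a b => Subtype.ext (Subtype.ext (by
      show reindex _ _ _ = reindex _ _ _ * reindex _ _ _
      simp only [reindex_apply, submatrix_mul_equiv, fromBlocks_multiply]
      simp))
theorem blk_dg (g : GL (Fin 4) (ZMod 2)) : blk (dg g) = g := Units.ext (by
  ext i j; fin_cases i <;> fin_cases j <;> rfl)

end CL.HY.PF
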