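import Cfsg.Agent.INV.SX.Mod
import Mathlib.GroupTheory.PGroup

/-!
A computable model `W = V ⋊ U` of a Sylow 2-subgroup of `S₁₆` (order `2¹⁵`).

Points are `(x₁, x₂, x₃, x₄) ∈ F₂⁴`; `i = x₂ + 2x₃ + 4x₄ < 8` is a *pair*. `V = CL.SX.V` is the group of functions on
the 8 pairs (bit masks), the function `v` acting by `x₁ ↦ x₁ + v(i)`. `U` (order 128) is the group of the maps
`(x₂, x₃, x₄) ↦ (x₂ + f₂(x₃, x₄), x₃ + f₃(x₄), x₄ + f₄)`, coded by `f₄ + 2 f₃ + 8 f₂` (`f₃` two bits indexed by `x₄`, `f₂` four bits
indexed by `x₃ + 2x₄`). `ww v u` first applies `u`, then `v`. All operations evaluate fast by `decide +kernel`.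
-/

set_option autoImplicit false

namespace CL.HY
open CL.SX (V vv allN anyN allN_iff anyN_iff lin e hom_ext lin_e)

def TD : ℕ := 0x5397721ab3e8f11d5ab839c547c6370ee2ade54c1fac688
def RD : ℕ := 0xf7b3d591e6a2c480fdec7564b9a83120f7b3e6a2d591c480fedc7654ba983210fb73d951ea62c840fdecb9a875643120fb73ea62d951c840fedcba9876543210
def UI : ℕ := 0xfffbdfcfbebcf87fbadf47baacf0bfd9decbbc9ce83f98de43b88ce0defb5bceb6b8d85eba5b46b2a8d09ed95acab498c81e985a42b088c0ef7b9dcdaeb4b86f3a9d45aaa4b0af599cc9ac94a82f189c41a884a0ce7b19cca6b0984e3a1944a2a0908e5918c8a490880e181840a08080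
def PT : ℕ := 0x53977977053053de59774c14c1977de50534c1de5de54c105397e97705a053dec9774c84c197ede505a4c1decde54c8053b37977213053fa59776814c1b37de52134c1fa5de5681053b3e97721a053fac9776884c1b3ede521a4c1facde568805a97797e05305ade597e4c14c8977dec0534c8de5dec4c105a97e97e05a05adec97e4c84c897edec05a4c8decdec4c805ab3797e21305afa597e6814c8b37dec2134c8fa5dec68105ab3e97e21a05afac97e6884c8b3edec21a4c8facdec688213977b37053213de5b374c1681977fa5053681de5fa54c121397eb3705a213decb374c868197efa505a681decfa54c8213b37b37213213fa5b37681681b37fa5213681fa5fa5681213b3eb3721a213facb37688681b3efa521a681facfa568821a977b3e05321ade5b3e4c1688977fac053688de5fac4c121a97eb3e05a21adecb3e4c868897efac05a688decfac4c821ab37b3e21321afa5b3e681688b37fac213688fa5fac68121ab3eb3e21a21afacb3e688688b3efac21a688facfac688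
def A0 : ℕ := 0xf070b030d0509010e060a020c04080000f070b030d0509010e060a020c040800f0d0e0c070506040b090a080301020000f0d0e0c070506040b090a0803010200f070b030d0509010e060a020c04080000f070b030d0509010e060a020c040800f0d0e0c070506040b090a080301020000f0d0e0c070506040b090a0803010200f0b07030d0905010e0a06020c08040000f0b07030d0905010e0a06020c080400f0e0d0c070605040b0a09080302010000f0e0d0c070605040b0a090803020100f0b07030d0905010e0a06020c08040000f0b07030d0905010e0a06020c080400f0e0d0c070605040b0a09080302010000f0e0d0c070605040b0a090803020100f070b030e060a020d0509010c04080000f070b030e060a020d0509010c040800f0d0e0c0b090a08070506040301020000f0d0e0c0b090a080705060403010200f070b030e060a020d0509010c04080000f070b030e060a020d0509010c040800f0d0e0c0b090a08070506040301020000f0d0e0c0b090a080705060403010200f0b07030e0a06020d0905010c08040000f0b07030e0a06020d0905010c080400f0e0d0c0b0a0908070605040302010000f0e0d0c0b0a09080706050403020100f0b07030e0a06020d0905010c08040000f0b07030e0a06020d0905010c080400f0e0d0c0b0a0908070605040302010000f0e0d0c0b0a0908070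6050403020100f070b030d0509010e060a020c04080000f070b030d0509010e060a020c040800f0d0e0c070506040b090a080301020000f0d0e0c070506040b090a0803010200f070b030d0509010e060a020c04080000f070b030d0509010e060a020c040800f0d0e0c070506040b090a080301020000f0d0e0c070506040b090a0803010200f0b07030d0905010e0a06020c08040000f0b07030d0905010e0a06020c080400f0e0d0c070605040b0a09080302010000f0e0d0c070605040b0a090803020100f0b07030d0905010e0a06020c08040000f0b07030d0905010e0a06020c080400f0e0d0c070605040b0a09080302010000f0e0d0c070605040b0a090803020100f070b030e060a020d0509010c04080000f070b030e060a020d0509010c040800f0d0e0c0b090a08070506040301020000f0d0e0c0b090a080705060403010200f070b030e060a020d0509010c04080000f070b030e060a020d0509010c040800f0d0e0c0b090a08070506040301020000f0d0e0c0b090a080705060403010200f0b07030e0a06020d0905010c08040000f0b07030e0a06020d0905010c080400f0e0d0c0b0a0908070605040302010000f0e0d0c0b0a09080706050403020100f0b07030e0a06020d0905010c08040000f0b07030e0a06020d0905010c080400f0e0d0c0b0a0908070605040302010000f0e0d0c0b0a09080706050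403020100f070b030d0509010e060a020c04080000f070b030d0509010e060a020c040800f0d0e0c070506040b090a080301020000f0d0e0c070506040b090a0803010200f070b030d0509010e060a020c04080000f070b030d0509010e060a020c040800f0d0e0c070506040b090a080301020000f0d0e0c070506040b090a0803010200f0b07030d0905010e0a06020c08040000f0b07030d0905010e0a06020c080400f0e0d0c070605040b0a09080302010000f0e0d0c070605040b0a090803020100f0b07030d0905010e0a06020c08040000f0b07030d0905010e0a06020c080400f0e0d0c070605040b0a09080302010000f0e0d0c070605040b0a090803020100f070b030e060a020d0509010c04080000f070b030e060a020d0509010c040800f0d0e0c0b090a08070506040301020000f0d0e0c0b090a080705060403010200f070b030e060a020d0509010c04080000f070b030e060a020d0509010c040800f0d0e0c0b090a08070506040301020000f0d0e0c0b090a080705060403010200f0b07030e0a06020d0905010c08040000f0b07030e0a06020d0905010c080400f0e0d0c0b0a0908070605040302010000f0e0d0c0b0a09080706050403020100f0b07030e0a06020d0905010c08040000f0b07030e0a06020d0905010c080400f0e0d0c0b0a0908070605040302010000f0e0d0c0b0a090807060504030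20100f070b030d0509010e060a020c04080000f070b030d0509010e060a020c040800f0d0e0c070506040b090a080301020000f0d0e0c070506040b090a0803010200f070b030d0509010e060a020c04080000f070b030d0509010e060a020c040800f0d0e0c070506040b090a080301020000f0d0e0c070506040b090a0803010200f0b07030d0905010e0a06020c08040000f0b07030d0905010e0a06020c080400f0e0d0c070605040b0a09080302010000f0e0d0c070605040b0a090803020100f0b07030d0905010e0a06020c08040000f0b07030d0905010e0a06020c080400f0e0d0c070605040b0a09080302010000f0e0d0c070605040b0a090803020100f070b030e060a020d0509010c04080000f070b030e060a020d0509010c040800f0d0e0c0b090a08070506040301020000f0d0e0c0b090a080705060403010200f070b030e060a020d0509010c04080000f070b030e060a020d0509010c040800f0d0e0c0b090a08070506040301020000f0d0e0c0b090a080705060403010200f0b07030e0a06020d0905010c08040000f0b07030e0a06020d0905010c080400f0e0d0c0b0a0908070605040302010000f0e0d0c0b0a09080706050403020100f0b07030e0a06020d0905010c08040000f0b07030e0a06020d0905010c080400f0e0d0c0b0a0908070605040302010000f0e0d0c0b0a09080706050403020100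
def A1 : ℕ := 0xf070b030d0509010e060a020c040800f070b030d0509010e060a020c04080000f070b030d0509010e060a020c040800f070b030d0509010e060a020c04080000f0d0e0c070506040b090a0803010200f0d0e0c070506040b090a080301020000f0d0e0c070506040b090a0803010200f0d0e0c070506040b090a080301020000f070b030d0509010e060a020c040800f070b030d0509010e060a020c04080000f070b030d0509010e060a020c040800f070b030d0509010e060a020c04080000f0d0e0c070506040b090a0803010200f0d0e0c070506040b090a080301020000f0d0e0c070506040b090a0803010200f0d0e0c070506040b090a080301020000f070b030d0509010e060a020c040800f070b030d0509010e060a020c04080000f070b030d0509010e060a020c040800f070b030d0509010e060a020c04080000f0d0e0c070506040b090a0803010200f0d0e0c070506040b090a080301020000f0d0e0c070506040b090a0803010200f0d0e0c070506040b090a080301020000f070b030d0509010e060a020c040800f070b030d0509010e060a020c04080000f070b030d0509010e060a020c040800f070b030d0509010e060a020c04080000f0d0e0c070506040b090a0803010200f0d0e0c070506040b090a080301020000f0d0e0c070506040b090a0803010200f0d0e0c070506040b090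a080301020000f0b07030d0905010e0a06020c080400f0b07030d0905010e0a06020c08040000f0b07030d0905010e0a06020c080400f0b07030d0905010e0a06020c08040000f0e0d0c070605040b0a090803020100f0e0d0c070605040b0a09080302010000f0e0d0c070605040b0a090803020100f0e0d0c070605040b0a09080302010000f0b07030d0905010e0a06020c080400f0b07030d0905010e0a06020c08040000f0b07030d0905010e0a06020c080400f0b07030d0905010e0a06020c08040000f0e0d0c070605040b0a090803020100f0e0d0c070605040b0a09080302010000f0e0d0c070605040b0a090803020100f0e0d0c070605040b0a09080302010000f0b07030d0905010e0a06020c080400f0b07030d0905010e0a06020c08040000f0b07030d0905010e0a06020c080400f0b07030d0905010e0a06020c08040000f0e0d0c070605040b0a090803020100f0e0d0c070605040b0a09080302010000f0e0d0c070605040b0a090803020100f0e0d0c070605040b0a09080302010000f0b07030d0905010e0a06020c080400f0b07030d0905010e0a06020c08040000f0b07030d0905010e0a06020c080400f0b07030d0905010e0a06020c08040000f0e0d0c070605040b0a090803020100f0e0d0c070605040b0a09080302010000f0e0d0c070605040b0a090803020100f0e0d0c070605040b0a09080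302010000f070b030e060a020d0509010c040800f070b030e060a020d0509010c04080000f070b030e060a020d0509010c040800f070b030e060a020d0509010c04080000f0d0e0c0b090a080705060403010200f0d0e0c0b090a08070506040301020000f0d0e0c0b090a080705060403010200f0d0e0c0b090a08070506040301020000f070b030e060a020d0509010c040800f070b030e060a020d0509010c04080000f070b030e060a020d0509010c040800f070b030e060a020d0509010c04080000f0d0e0c0b090a080705060403010200f0d0e0c0b090a08070506040301020000f0d0e0c0b090a080705060403010200f0d0e0c0b090a08070506040301020000f070b030e060a020d0509010c040800f070b030e060a020d0509010c04080000f070b030e060a020d0509010c040800f070b030e060a020d0509010c04080000f0d0e0c0b090a080705060403010200f0d0e0c0b090a08070506040301020000f0d0e0c0b090a080705060403010200f0d0e0c0b090a08070506040301020000f070b030e060a020d0509010c040800f070b030e060a020d0509010c04080000f070b030e060a020d0509010c040800f070b030e060a020d0509010c04080000f0d0e0c0b090a080705060403010200f0d0e0c0b090a08070506040301020000f0d0e0c0b090a080705060403010200f0d0e0c0b090a080705060403010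20000f0b07030e0a06020d0905010c080400f0b07030e0a06020d0905010c08040000f0b07030e0a06020d0905010c080400f0b07030e0a06020d0905010c08040000f0e0d0c0b0a09080706050403020100f0e0d0c0b0a0908070605040302010000f0e0d0c0b0a09080706050403020100f0e0d0c0b0a0908070605040302010000f0b07030e0a06020d0905010c080400f0b07030e0a06020d0905010c08040000f0b07030e0a06020d0905010c080400f0b07030e0a06020d0905010c08040000f0e0d0c0b0a09080706050403020100f0e0d0c0b0a0908070605040302010000f0e0d0c0b0a09080706050403020100f0e0d0c0b0a0908070605040302010000f0b07030e0a06020d0905010c080400f0b07030e0a06020d0905010c08040000f0b07030e0a06020d0905010c080400f0b07030e0a06020d0905010c08040000f0e0d0c0b0a09080706050403020100f0e0d0c0b0a0908070605040302010000f0e0d0c0b0a09080706050403020100f0e0d0c0b0a0908070605040302010000f0b07030e0a06020d0905010c080400f0b07030e0a06020d0905010c08040000f0b07030e0a06020d0905010c080400f0b07030e0a06020d0905010c08040000f0e0d0c0b0a09080706050403020100f0e0d0c0b0a0908070605040302010000f0e0d0c0b0a09080706050403020100f0e0d0c0b0a090807060504030201000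

/-- the Sylow 2-subgroup of `S₈` -/
def U : Type := Fin 128

instance : DecidableEq U := fun a b =>
  decidable_of_iff (Nat.beq (Fin.val a) (Fin.val b) = true) (Nat.beq_eq ▸ Fin.ext_iff.symm)
instance : Fintype U := inferInstanceAs (Fintype (Fin 128))

def uu (n : ℕ) : U := ⟨Nat.mod n 128, Nat.mod_lt _ (by decide)⟩
theorem uu_val (t : U) : uu (Fin.val t) = t := Fin.ext (Nat.mod_eq_of_lt (Fin.isLt t))

instance (p : U → Prop) [h : DecidablePred p] : Decidable (∀ t, p t) :=
  decidable_of_iff (allN 128 (fun i => decide (p (uu i))) = true) (allN_iff.trans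
    ⟨fun H v => uu_val v ▸ of_decide_eq_true (H _ (Fin.isLt v)), fun H _ _ => decide_eq_true (H _)⟩)
instance (p : U → Prop) [h : DecidablePred p] : Decidable (∃ t, p t) :=
  decidable_of_iff (anyN 128 (fun i => decide (p (uu i))) = true) (anyN_iff.trans
    ⟨fun ⟨_, _, H⟩ => ⟨_, of_decide_eq_true H⟩,
      fun ⟨v, H⟩ => ⟨_, Fin.isLt v, decide_eq_true ((uu_val v).symm ▸ H)⟩⟩)

def U.n (t : U) : ℕ := Fin.val t
theorem U.ext {a b : U} (h : a.n = b.n) : a = b := Fin.ext h
theorem U.lt (a : U) : a.n < 128 := Fin.isLt a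

/-- the action on the pairs -/
def pt (t : U) (i : Fin 8) : Fin 8 :=
  ⟨Nat.mod (Nat.shiftRight PT (Nat.mul 3 (Nat.add (Nat.mul 8 t.n) i.1))) 8, Nat.mod_lt _ (by decide)⟩

def umul (s t : U) : U :=
  uu (Nat.add (Nat.mod (Nat.shiftRight TD (Nat.mul 3 (Nat.add (Nat.mul 8 (Nat.mod s.n 8)) (Nat.mod t.n 8)))) 8)
    (Nat.mul 8 (Nat.xor (Nat.div t.n 8)
      (Nat.shiftRight RD (Nat.mul 4 (Nat.add (Nat.mul 16 (Nat.mod t.n 8)) (Nat.div s.n 8)))))))
def uinv (s : U) : U := uu (Nat.shiftRight UI (Nat.mul 7 s.n))

theorem pt_umul : ∀ s t : U, ∀ i, pt (umul s t) i = pt s (pt t i) := by decide +kernel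
theorem pt_inj : ∀ s t : U, (∀ i, pt s i = pt t i) → s = t := by decide +kernel

instance : Group U where
  mul := umul
  one := ⟨0, by decide⟩
  inv := uinv
  mul_assoc a b c := pt_inj _ _ fun i => by
    show pt (umul (umul a b) c) i = pt (umul a (umul b c)) i
    simp only [pt_umul]
  one_mul := by decide +kernel
  mul_one := by decide +kernel
  inv_mul_cancel := by decide +kernel

theorem pt_mul (s t : U) (i : Fin 8) : pt (s * t) i = pt s (pt t i) := pt_umul s t i
theorem pt_one : ∀ i, pt 1 i = i := by decide +kernel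
theorem U.card : Nat.card U = 128 := Nat.card_fin 128

/-- the action on the functions -/
def av (t : U) (v : V) : V :=
  vv (Nat.xor (Nat.shiftRight A0 (Nat.mul 8 (Nat.add (Nat.mul 16 t.n) (Nat.mod v.n 16))))
    (Nat.shiftRight A1 (Nat.mul 8 (Nat.add (Nat.mul 16 t.n) (Nat.div v.n 16)))))

theorem av_lin : ∀ t v, av t v = lin (fun i => e (pt t i)) v := by decide +kernel
theorem av_mul (t : U) (a b : V) : av t (a * b) = av t a * av t b := by simp only [av_lin, map_mul]
theorem av_one (t : U) : av t 1 = 1 := by rw [av_lin, map_one]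
theorem av_e (t : U) (i : Fin 8) : av t (e i) = e (pt t i) := by rw [av_lin, lin_e]
theorem one_av : ∀ v, av 1 v = v := by decide +kernel
theorem mul_av (s t : U) (v : V) : av (s * t) v = av s (av t v) := by
  have : lin (fun i => e (pt (s * t) i)) = (lin fun i => e (pt s i)).comp (lin fun i => e (pt t i)) :=
    hom_ext fun i => by simp [lin_e, pt_mul]
  simp only [av_lin, this, MonoidHom.comp_apply]
theorem av_inv_av (t : U) (v : V) : av t⁻¹ (av t v) = v := by rw [← mul_av, inv_mul_cancel, one_av]
theorem av_av_inv (t : U) (v : V) : av t (av t⁻¹ v) = v := by rw [← mul_av, mul_inv_cancel, one_av]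

/-- the model group -/
@[ext] structure W where
  v : V
  u : U
  deriving DecidableEq

instance (p : W → Prop) [DecidablePred p] : Decidable (∀ m, p m) :=
  decidable_of_iff (∀ u v, p ⟨v, u⟩) ⟨fun h m => h m.u m.v, fun h _ _ => h _⟩
instance (p : W → Prop) [DecidablePred p] : Decidable (∃ m, p m) :=
  decidable_of_iff (∃ u v, p ⟨v, u⟩) ⟨fun ⟨_, _, h⟩ => ⟨_, h⟩, fun ⟨m, h⟩ => ⟨m.u, m.v, h⟩⟩

instance : Group W where
  mul x y := ⟨x.v * av x.u y.v, x.u * y.u⟩
  one := ⟨1, 1⟩
  inv x := ⟨av x.u⁻¹ x.v, x.u⁻¹⟩
  mul_assoc x y z := W.ext (by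
    show x.v * av x.u y.v * av (x.u * y.u) z.v = x.v * av x.u (y.v * av y.u z.v)
    rw [av_mul, mul_av, mul_assoc]) (mul_assoc _ _ _)
  one_mul x := W.ext (by show 1 * av 1 x.v = x.v; rw [one_av, one_mul]) (one_mul _)
  mul_one x := W.ext (by show x.v * av x.u 1 = x.v; rw [av_one, mul_one]) (mul_one _)
  inv_mul_cancel x := W.ext (SX.V.mul_self _) (inv_mul_cancel _)

@[simp] theorem W.mul_v (x y : W) : (x * y).v = x.v * av x.u y.v := rfl
@[simp] theorem W.mul_u (x y : W) : (x * y).u = x.u * y.u := rfl
@[simp] theorem W.one_v : (1 : W).v = 1 := rfl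
@[simp] theorem W.one_u : (1 : W).u = 1 := rfl
@[simp] theorem W.inv_v (x : W) : x⁻¹.v = av x.u⁻¹ x.v := rfl
@[simp] theorem W.inv_u (x : W) : x⁻¹.u = x.u⁻¹ := rfl

def W.equiv : W ≃ V × U := ⟨fun m => (m.v, m.u), fun p => ⟨p.1, p.2⟩, fun _ => rfl, fun _ => rfl⟩
instance : Fintype W := Fintype.ofEquiv _ W.equiv.symm
theorem W.card : Nat.card W = 2 ^ 15 := by
  rw [Nat.card_congr W.equiv, Nat.card_prod, SX.V.card, U.card]; rfl

theorem W.pg : IsPGroup 2 W := IsPGroup.of_card W.card

/-- the element with given codes -/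
def ww (v u : ℕ) : W := ⟨vv v, uu u⟩

/-- the subgroup `{(v, u) | bit v of MV and bit u of MU}`; the check is `by decide +kernel` -/
def sgW (MV MU : ℕ) (h : (MV.testBit 0 = true ∧ MU.testBit 0 = true) ∧
    (∀ a : V, MV.testBit a.n = true → (∀ b : V, MV.testBit b.n = true → MV.testBit (a * b).n = true) ∧
      ∀ s : U, MU.testBit s.n = true → MV.testBit (av s a).n = true) ∧
    ∀ s : U, MU.testBit s.n = true → MU.testBit s⁻¹.n = true ∧
      ∀ t : U, MU.testBit t.n = true → MU.testBit (s * t).n = true) : Subgroup W where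
  carrier := {x | MV.testBit x.v.n = true ∧ MU.testBit x.u.n = true}
  one_mem' := h.1
  mul_mem' := fun ha hb => ⟨(h.2.1 _ ha.1).1 _ ((h.2.1 _ hb.1).2 _ ha.2), (h.2.2 _ ha.2).2 _ hb.2⟩
  inv_mem' := fun ha => ⟨(h.2.1 _ ha.1).2 _ (h.2.2 _ ha.2).1, (h.2.2 _ ha.2).1⟩

theorem mem_sgW {MV MU : ℕ} {h} {x : W} :
    x ∈ sgW MV MU h ↔ MV.testBit x.v.n = true ∧ MU.testBit x.u.n = true := Iff.rfl

instance (MV MU : ℕ) (h) (x : W) : Decidable (x ∈ sgW MV MU h) :=
  inferInstanceAs (Decidable (MV.testBit x.v.n = true ∧ MU.testBit x.u.n = true))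

/-- fast bounded quantifier -/
instance (priority := high) decB (MV MU : ℕ) (h) (p : W → Prop) [DecidablePred p] :
    Decidable (∀ x ∈ sgW MV MU h, p x) :=
  decidable_of_iff (∀ u : U, MU.testBit u.n = true → ∀ v : V, MV.testBit v.n = true → p ⟨v, u⟩)
    ⟨fun H _ hx => H _ hx.2 _ hx.1, fun H _ hu _ hv => H _ ⟨hv, hu⟩⟩

instance (priority := high) decE (MV MU : ℕ) (h) (p : W → Prop) [DecidablePred p] :
    Decidable (∃ x ∈ sgW MV MU h, p x) :=
  decidable_of_iff (∃ u : U, MU.testBit u.n = true ∧ ∃ v : V, MV.testBit v.n = true ∧ p ⟨v, u⟩)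
    ⟨fun ⟨_, hu, _, hv, H⟩ => ⟨_, ⟨hv, hu⟩, H⟩, fun ⟨_, hx, H⟩ => ⟨_, hx.2, _, hx.1, H⟩⟩

theorem card_sgW (MV MU : ℕ) (h) : Nat.card (sgW MV MU h) =
    ((Finset.range 256).filter fun n => MV.testBit n = true).card *
      ((Finset.range 128).filter fun n => MU.testBit n = true).card := by
  have e : sgW MV MU h ≃ ((Finset.range 256).filter fun n => MV.testBit n = true) ×
      ((Finset.range 128).filter fun n => MU.testBit n = true) :=
    { toFun := fun x => (⟨x.1.v.n, by simpa using ⟨x.1.v.lt, x.2.1⟩⟩, ⟨x.1.u.n, by simpa using ⟨x.1.u.lt, x.2.2⟩⟩)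
      invFun := fun p => ⟨⟨⟨p.1.1, by simpa using (Finset.mem_filter.1 p.1.2).1⟩,
        ⟨p.2.1, by simpa using (Finset.mem_filter.1 p.2.2).1⟩⟩,
        (Finset.mem_filter.1 p.1.2).2, (Finset.mem_filter.1 p.2.2).2⟩
      left_inv := fun _ => rfl
      right_inv := fun _ => rfl }
  rw [Nat.card_congr e, Nat.card_prod, Nat.card_eq_fintype_card, Nat.card_eq_fintype_card,
    Fintype.card_coe, Fintype.card_coe]

/-- the action on the 16 points `x₁ + 2 i` -/
def p16 (m : W) (x : Fin 16) : Fin 16 :=
  ⟨2 * (pt m.u ⟨x.1 / 2, by omega⟩).1 +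
    (x.1 + (m.v.n >>> (pt m.u ⟨x.1 / 2, by omega⟩).1)) % 2, by
    have := (pt m.u ⟨x.1 / 2, by omega⟩).2; omega⟩

/-! Named elements. -/
def zW : W := ww 255 0
def x12 : W := ww 170 0
def x13 : W := ww 204 0
def x14 : W := ww 240 0
def x23 : W := ww 0 80
def x24 : W := ww 0 96
def aW : W := ww 0 120
def x34 : W := ww 0 4
def w3 : W := ww 0 6
def w4 : W := ww 0 1
def b34 : W := ww 192 0
def b24 : W := ww 160 0
def b23 : W := ww 136 0
def rW : W := ww 128 0
def vW : W := ww 0 64

/-! Named subgroups. -/
def mZ : ℕ := 0x8000000000000000000000000000000000000000000000000000000000000001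
def mD3 : ℕ := 0x8001000000001008000000000000000000000000000000001008000000008001
def mBa : ℕ := 0x9009000000009009000000000000000000000000000000009009000000009009
def mAf : ℕ := 0x8001000000001008000004200240000000000240042000001008000000008001
def mA5 : ℕ := 0x9009000000009009000006600660000000000660066000009009000000009009
def mA6 : ℕ := 0x9669000000009669000096699669000000009669966900009669000000009669
def mEv : ℕ := 0x9669699669969669699696699669699669969669966969969669699669969669
def mAll : ℕ := 0xffffffffffffffffffffffffffffffffffffffffffffffffffffffffffffffff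
def m1 : ℕ := 0x1
def u1 : ℕ := 0x1
def uW : ℕ := 0xc30000000000000000000000000000c3
def uW2 : ℕ := 0xc3
def uF : ℕ := 0x1000001000101000001010001000001
def uVa : ℕ := 0x1010101010101010101010101010101
def u0 : ℕ := 0xff0000ff00ffff0000ffff00ff0000ff
def uAll : ℕ := 0xffffffffffffffffffffffffffffffff
def uFW : ℕ := 0xc30000c300c3c30000c3c300c30000c3
def uVW : ℕ := 0xc3c3c3c3c3c3c3c3c3c3c3c3c3c3c3c3
def ua : ℕ := 0x1000000000000000000000000000001
/-- the image of `A` -/
abbrev AW : Subgroup W := sgW mZ uW (by decide +kernel)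
theorem card_AW : Nat.card AW = 16 := (card_sgW _ _ _).trans (by decide +kernel)
/-- the image of `A'`: affine functions -/
abbrev ApW : Subgroup W := sgW mAf u1 (by decide +kernel)
theorem card_ApW : Nat.card ApW = 16 := (card_sgW _ _ _).trans (by decide +kernel)
/-- the image of `Q` -/
abbrev QW : Subgroup W := sgW mAf uW (by decide +kernel)
theorem card_QW : Nat.card QW = 128 := (card_sgW _ _ _).trans (by decide +kernel)
/-- the image of `T` -/
abbrev TW : Subgroup W := sgW mAf u0 (by decide +kernel)
theorem card_TW : Nat.card TW = 1024 := (card_sgW _ _ _).trans (by decide +kernel)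
/-- `T⟨b34⟩` -/
abbrev T11 : Subgroup W := sgW mA5 u0 (by decide +kernel)
theorem card_T11 : Nat.card T11 = 2048 := (card_sgW _ _ _).trans (by decide +kernel)
/-- `T⟨b34, b24⟩` -/
abbrev T12 : Subgroup W := sgW mA6 u0 (by decide +kernel)
theorem card_T12 : Nat.card T12 = 4096 := (card_sgW _ _ _).trans (by decide +kernel)
/-- `T B`, order `2¹³` -/
abbrev TB : Subgroup W := sgW mEv u0 (by decide +kernel)
theorem card_TB : Nat.card TB = 8192 := (card_sgW _ _ _).trans (by decide +kernel)
/-- the even part, a Sylow 2-subgroup of `A₁₆` -/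
abbrev W14 : Subgroup W := sgW mEv uAll (by decide +kernel)
theorem card_W14 : Nat.card W14 = 16384 := (card_sgW _ _ _).trans (by decide +kernel)
/-- `B`: even functions, order `2⁷` -/
abbrev BW : Subgroup W := sgW mEv u1 (by decide +kernel)
theorem card_BW : Nat.card BW = 128 := (card_sgW _ _ _).trans (by decide +kernel)
/-- `B̂`: all functions, order `2⁸` -/
abbrev BH : Subgroup W := sgW mAll u1 (by decide +kernel)
theorem card_BH : Nat.card BH = 256 := (card_sgW _ _ _).trans (by decide +kernel)
/-- `K = Q B`, order `2¹⁰` -/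
abbrev KW : Subgroup W := sgW mEv uW (by decide +kernel)
theorem card_KW : Nat.card KW = 1024 := (card_sgW _ _ _).trans (by decide +kernel)
/-- `Q⟨b34⟩` -/
abbrev K8 : Subgroup W := sgW mA5 uW (by decide +kernel)
theorem card_K8 : Nat.card K8 = 256 := (card_sgW _ _ _).trans (by decide +kernel)
/-- `Q⟨b34, b24⟩` -/
abbrev K9 : Subgroup W := sgW mA6 uW (by decide +kernel)
theorem card_K9 : Nat.card K9 = 512 := (card_sgW _ _ _).trans (by decide +kernel)
/-- `Q B̂` -/
abbrev KH : Subgroup W := sgW mAll uW (by decide +kernel)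
theorem card_KH : Nat.card KH = 2048 := (card_sgW _ _ _).trans (by decide +kernel)
/-- `A'⟨b34⟩` -/
abbrev A5W : Subgroup W := sgW mA5 u1 (by decide +kernel)
theorem card_A5W : Nat.card A5W = 32 := (card_sgW _ _ _).trans (by decide +kernel)
/-- `B_a = Z(D)`: functions of `x₃, x₄` -/
abbrev BaW : Subgroup W := sgW mBa u1 (by decide +kernel)
theorem card_BaW : Nat.card BaW = 16 := (card_sgW _ _ _).trans (by decide +kernel)
/-- `⟨z, e13, e14⟩` -/
abbrev D3W : Subgroup W := sgW mD3 u1 (by decide +kernel)
theorem card_D3W : Nat.card D3W = 8 := (card_sgW _ _ _).trans (by decide +kernel)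
/-- the image of `F` -/
abbrev FW : Subgroup W := sgW mD3 uF (by decide +kernel)
theorem card_FW : Nat.card FW = 64 := (card_sgW _ _ _).trans (by decide +kernel)
/-- `V* = F⟨b34, v⟩`, the product of the four block four-groups -/
abbrev VS : Subgroup W := sgW mBa uVa (by decide +kernel)
theorem card_VS : Nat.card VS = 256 := (card_sgW _ _ _).trans (by decide +kernel)
/-- the image of `T12s`, order `2⁹` -/
abbrev YW : Subgroup W := sgW mD3 u0 (by decide +kernel)
theorem card_YW : Nat.card YW = 512 := (card_sgW _ _ _).trans (by decide +kernel)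
/-- `Y⟨b34⟩` -/
abbrev YB : Subgroup W := sgW mBa u0 (by decide +kernel)
theorem card_YB : Nat.card YB = 1024 := (card_sgW _ _ _).trans (by decide +kernel)
/-- `Y V*`, order `2¹¹` -/
abbrev YV : Subgroup W := sgW mBa uAll (by decide +kernel)
theorem card_YV : Nat.card YV = 2048 := (card_sgW _ _ _).trans (by decide +kernel)
/-- `D = D₈⁴` -/
abbrev DW : Subgroup W := sgW mAll uVa (by decide +kernel)
theorem card_DW : Nat.card DW = 4096 := (card_sgW _ _ _).trans (by decide +kernel)
/-- the even part of `D` -/
abbrev D14 : Subgroup W := sgW mEv uVa (by decide +kernel)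
theorem card_D14 : Nat.card D14 = 2048 := (card_sgW _ _ _).trans (by decide +kernel)
/-- `V*⟨w3, w4⟩` -/
abbrev VW : Subgroup W := sgW mBa uVW (by decide +kernel)
theorem card_VW : Nat.card VW = 1024 := (card_sgW _ _ _).trans (by decide +kernel)
/-- `⟨a, w3, w4⟩` -/
abbrev WW : Subgroup W := sgW m1 uW (by decide +kernel)
theorem card_WW : Nat.card WW = 8 := (card_sgW _ _ _).trans (by decide +kernel)
/-- `⟨w3, w4⟩` -/
abbrev W2 : Subgroup W := sgW m1 uW2 (by decide +kernel)
theorem card_W2 : Nat.card W2 = 4 := (card_sgW _ _ _).trans (by decide +kernel)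
/-- the complement `U` -/
abbrev UW : Subgroup W := sgW m1 uAll (by decide +kernel)
theorem card_UW : Nat.card UW = 128 := (card_sgW _ _ _).trans (by decide +kernel)
/-- `⟨z, a⟩` -/
abbrev V0 : Subgroup W := sgW mZ ua (by decide +kernel)
theorem card_V0 : Nat.card V0 = 4 := (card_sgW _ _ _).trans (by decide +kernel)

end CL.HY
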